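import Cfsg.Agent.H332.O8S.Psu3
import Cfsg.Agent.KFacts.OutCyc.PSU
import Cfsg.Agent.S0283
import Cfsg.Agent.Lib.FieldAutCard

/-!
# `PSU₃(5)`: three conjugates of an outer diagonal element of order 3 (helper497, S3938-OPLUS8-Q2)
-/

set_option autoImplicit false

namespace Cfsg.Agent.H497.Spr.Psu5


/-- a group of order dividing 27 -/
theorem comm_center {P : Type*} [Group P] [Finite P] (h3 : IsPGroup 3 P) (h : Nat.card P ∣ 27) (a b : P) :
    a * b * a⁻¹ * b⁻¹ ∈ Subgroup.center P := by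
  have : Fact (Nat.Prime 3) := ⟨Nat.prime_three⟩
  rcases subsingleton_or_nontrivial P with hs | hn
  · rw [Subsingleton.elim (a * b * a⁻¹ * b⁻¹) 1]
    exact one_mem _
  have hz := h3.bot_lt_center
  have h1 : 3 ∣ Nat.card (Subgroup.center P) := by
    obtain ⟨k, hk⟩ := (IsPGroup.iff_card.1 (h3.to_subgroup (Subgroup.center P)))
    rw [hk]
    apply dvd_pow_self
    rintro rfl
    rw [pow_zero, Subgroup.card_eq_one] at hk
    exact hz.ne' hk
  have h2 : Nat.card (P ⧸ Subgroup.center P) ∣ 9 := by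
    have h4 := Subgroup.card_eq_card_quotient_mul_card_subgroup (Subgroup.center P)
    rw [h4] at h
    obtain ⟨m, hm⟩ := h1
    rw [hm] at h
    have : Nat.card (P ⧸ Subgroup.center P) * 3 ∣ 9 * 3 := by
      refine dvd_trans ⟨m, ?_⟩ h
      ring
    exact Nat.dvd_of_mul_dvd_mul_right (by norm_num) this
  have h5 : IsMulCommutative (P ⧸ Subgroup.center P) := by
    have h6 : Nat.card (P ⧸ Subgroup.center P) ∣ 3 ^ 2 := h2
    obtain ⟨k, hk, hk'⟩ := (Nat.dvd_prime_pow Nat.prime_three).1 h6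
    interval_cases k
    · rw [pow_zero] at hk'
      have := (Nat.card_eq_one_iff_unique.1 hk').1
      exact ⟨⟨fun a b => Subsingleton.elim _ _⟩⟩
    · rw [pow_one] at hk'
      have := isCyclic_of_prime_card hk'
      let _ := IsCyclic.commGroup (α := P ⧸ Subgroup.center P)
      exact ⟨⟨fun a b => mul_comm a b⟩⟩
    · exact IsPGroup.isMulCommutative_of_card_eq_prime_sq hk'
  rw [← QuotientGroup.eq_one_iff]
  have h7 := h5.is_comm.comm (a : P ⧸ Subgroup.center P) (b : P ⧸ Subgroup.center P)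
  change (a : P ⧸ Subgroup.center P) * b * (a : P ⧸ Subgroup.center P)⁻¹ * (b : P ⧸ Subgroup.center P)⁻¹ = 1
  rw [h7]
  group

theorem conj_of_nonab {R : Type*} [Group R] [Finite R] (S : Subgroup R) [S.Normal] (h27 : ¬ 27 ∣ Nat.card S)
    (hidx : S.index ∣ 6) {t : R} (ht : orderOf t = 3) (htS : t ∉ S) {T : Subgroup R} (hT : IsPGroup 3 T) {a b : R}
    (ha : a ∈ T) (hb : b ∈ T) (hab : a * b ≠ b * a) :
    ∃ t₁ t₂ : R, IsConj t t₁ ∧ IsConj t t₂ ∧ t * t₁ = t₁ * t ∧ t * t₂ = t₂ * t ∧ t₁ ∉ Subgroup.zpowers t ∧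
      t₂ ∉ Subgroup.zpowers t ∧ t₁ * t₂ = t⁻¹ := by
  have : Fact (Nat.Prime 3) := ⟨Nat.prime_three⟩
  -- a Sylow 3-subgroup containing `t`
  have h1 : IsPGroup 3 (Subgroup.zpowers t) := by
    apply IsPGroup.of_card (n := 1)
    rw [Nat.card_zpowers, ht, pow_one]
  obtain ⟨P, hP⟩ := h1.exists_le_sylow
  have htP : t ∈ (P : Subgroup R) := hP (Subgroup.mem_zpowers t)
  -- `P` is nonabelian
  obtain ⟨P', hP'⟩ := hT.exists_le_sylow
  obtain ⟨g, hg⟩ := MulAction.exists_smul_eq R P' P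
  obtain ⟨a', b', haP, hbP, hab'⟩ : ∃ a' b', a' ∈ (P : Subgroup R) ∧ b' ∈ (P : Subgroup R) ∧ a' * b' ≠ b' * a' := by
    refine ⟨g * a * g⁻¹, g * b * g⁻¹, ?_, ?_, ?_⟩
    · rw [← hg]
      exact ⟨a, hP' ha, rfl⟩
    · rw [← hg]
      exact ⟨b, hP' hb, rfl⟩
    · intro h
      apply hab
      have h2 : g * (a * b) * g⁻¹ = g * (b * a) * g⁻¹ := by
        calc g * (a * b) * g⁻¹ = (g * a * g⁻¹) * (g * b * g⁻¹) := by group
          _ = (g * b * g⁻¹) * (g * a * g⁻¹) := h
          _ = _ := by group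
      exact mul_left_cancel (mul_right_cancel h2)
  -- `|P ∩ S| ∣ 9`
  have hQ : Nat.card ((P : Subgroup R) ⊓ S : Subgroup R) ∣ 9 := by
    have h2 : IsPGroup 3 ((P : Subgroup R) ⊓ S : Subgroup R) := P.isPGroup'.to_le inf_le_left
    obtain ⟨k, hk⟩ := IsPGroup.iff_card.1 h2
    have h3 : Nat.card ((P : Subgroup R) ⊓ S : Subgroup R) ∣ Nat.card S := Subgroup.card_dvd_of_le inf_le_right
    rw [hk] at h3 ⊢
    have h4 : k < 3 := by
      by_contra hcon
      exact h27 ((pow_dvd_pow 3 (not_lt.1 hcon)).trans h3)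
    exact pow_dvd_pow 3 (show k ≤ 2 by omega)
  have hQc : ∀ u v : R, u ∈ (P : Subgroup R) → u ∈ S → v ∈ (P : Subgroup R) → v ∈ S → u * v = v * u := by
    intro u v hu hu' hv hv'
    have h2 : Nat.card ((P : Subgroup R) ⊓ S : Subgroup R) ∣ 3 ^ 2 := hQ
    obtain ⟨k, hk, hk'⟩ := (Nat.dvd_prime_pow Nat.prime_three).1 h2
    have h5 : ∀ x y : ((P : Subgroup R) ⊓ S : Subgroup R), x * y = y * x := by
      interval_cases k
      · rw [pow_zero] at hk'
        have := (Nat.card_eq_one_iff_unique.1 hk').1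
        exact fun a b => Subsingleton.elim _ _
      · rw [pow_one] at hk'
        have := isCyclic_of_prime_card hk'
        let _ := IsCyclic.commGroup (α := ((P : Subgroup R) ⊓ S : Subgroup R))
        exact fun a b => mul_comm a b
      · exact (IsPGroup.isMulCommutative_of_card_eq_prime_sq hk').is_comm.comm
    exact congrArg Subtype.val (h5 ⟨u, hu, hu'⟩ ⟨v, hv, hv'⟩)
  -- the index of `P ∩ S` in `P` divides 3
  have hix : (S.subgroupOf (P : Subgroup R)).index ∣ 3 := by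
    have h2 : S.relIndex (P : Subgroup R) ∣ S.index := Subgroup.relIndex_dvd_index_of_normal S _
    have h3 : S.relIndex (P : Subgroup R) ∣ Nat.card (P : Subgroup R) := Subgroup.index_dvd_card _
    obtain ⟨k, hk⟩ := IsPGroup.iff_card.1 P.isPGroup'
    rw [hk] at h3
    obtain ⟨j, -, hj⟩ := (Nat.dvd_prime_pow Nat.prime_three).1 h3
    have h4 := h2.trans hidx
    change S.relIndex (P : Subgroup R) ∣ 3
    rw [hj] at h4 ⊢
    have h5 : j ≤ 1 := by
      by_contra hcon
      have : 3 ^ 2 ∣ 6 := (pow_dvd_pow 3 (by omega : 2 ≤ j)).trans h4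
      omega
    exact (pow_dvd_pow 3 h5).trans (by norm_num)
  -- every element of `P` is `q t ^ i`
  have hgen : ∀ u ∈ (P : Subgroup R), ∃ i : ℤ, u * t ^ i ∈ S := by
    intro u hu
    have hne : (S.subgroupOf (P : Subgroup R)).index ≠ 1 := by
      intro h2
      rw [Subgroup.index_eq_one] at h2
      have : (⟨t, htP⟩ : (P : Subgroup R)) ∈ S.subgroupOf (P : Subgroup R) := by rw [h2]; trivial
      exact htS this
    have h3 : (S.subgroupOf (P : Subgroup R)).index = 3 := by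
      rcases (Nat.dvd_prime Nat.prime_three).1 hix with h | h
      · exact absurd h hne
      · exact h
    have h4 : Nat.card ((P : Subgroup R) ⧸ S.subgroupOf (P : Subgroup R)) = 3 := h3
    have h5 := mem_zpowers_of_prime_card (p := 3) (g := ((⟨t, htP⟩ : (P : Subgroup R)) : (P : Subgroup R) ⧸ S.subgroupOf (P : Subgroup R))) 
      (g' := ((⟨u, hu⟩ : (P : Subgroup R)) : (P : Subgroup R) ⧸ S.subgroupOf (P : Subgroup R))) h4 (by
        intro h
        exact htS ((QuotientGroup.eq_one_iff (⟨t, htP⟩ : (P : Subgroup R))).1 h))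
    obtain ⟨i, hi⟩ := h5
    refine ⟨-i, ?_⟩
    have h6 : (((⟨u, hu⟩ : (P : Subgroup R)) * (⟨t, htP⟩ : (P : Subgroup R)) ^ (-i) : (P : Subgroup R)) : (P : Subgroup R) ⧸ S.subgroupOf (P : Subgroup R)) = 1 := by
      rw [QuotientGroup.mk_mul, QuotientGroup.mk_zpow, ← hi]
      change _ ^ i * _ ^ (-i) = 1
      rw [← zpow_add, add_neg_cancel, zpow_zero]
    have h7 := (QuotientGroup.eq_one_iff _).1 h6
    exact h7
  -- some `q ∈ P ∩ S` does not commute with `t`
  obtain ⟨q, hqP, hqS, hqt⟩ : ∃ q, q ∈ (P : Subgroup R) ∧ q ∈ S ∧ q * t ≠ t * q := by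
    by_contra hcon
    push Not at hcon
    obtain ⟨i, hi⟩ := hgen a' haP
    obtain ⟨j, hj⟩ := hgen b' hbP
    have hi' := hcon _ (mul_mem haP (zpow_mem htP i)) hi
    have hj' := hcon _ (mul_mem hbP (zpow_mem htP j)) hj
    have hij := hQc _ _ (mul_mem haP (zpow_mem htP i)) hi (mul_mem hbP (zpow_mem htP j)) hj
    have h1 : Commute (a' * t ^ i) t := hi'
    have h2 : Commute (b' * t ^ j) t := hj'
    have h3 : Commute (a' * t ^ i) (b' * t ^ j) := hij
    have h4 : Commute (a' * t ^ i) (b' * t ^ j * t ^ (-j)) := h3.mul_right (h1.zpow_right _)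
    have h5 : Commute t (b' * t ^ j * t ^ (-j)) := h2.symm.mul_right ((Commute.refl t).zpow_right _)
    have h6 : Commute (a' * t ^ i * t ^ (-i)) (b' * t ^ j * t ^ (-j)) := h4.mul_left (h5.zpow_left _)
    apply hab'
    have h7 : a' * t ^ i * t ^ (-i) = a' := by rw [mul_assoc, ← zpow_add, add_neg_cancel, zpow_zero, mul_one]
    have h8 : b' * t ^ j * t ^ (-j) = b' := by rw [mul_assoc, ← zpow_add, add_neg_cancel, zpow_zero, mul_one]
    rw [h7, h8] at h6
    exact h6
  have hPc : Nat.card (P : Subgroup R) ∣ 27 := by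
    have h2 := Subgroup.card_eq_card_quotient_mul_card_subgroup (S.subgroupOf (P : Subgroup R))
    rw [h2]
    have h3 : Nat.card (S.subgroupOf (P : Subgroup R)) = Nat.card ((P : Subgroup R) ⊓ S : Subgroup R) := by
      rw [← Subgroup.inf_subgroupOf_right S (P : Subgroup R), inf_comm]
      exact Nat.card_congr (Subgroup.subgroupOfEquivOfLe inf_le_left).toEquiv
    rw [h3]
    exact mul_dvd_mul hix hQ
  obtain ⟨z, hz⟩ : ∃ z, z = q * t * q⁻¹ * t⁻¹ := ⟨_, rfl⟩
  have hzc : ∀ u ∈ (P : Subgroup R), z * u = u * z := by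
    intro u hu
    have h2 := comm_center P.isPGroup' hPc ⟨q, hqP⟩ ⟨t, htP⟩
    have h3 := Subgroup.mem_center_iff.1 h2 ⟨u, hu⟩
    have h4 := congrArg Subtype.val h3
    rw [hz]
    exact h4.symm
  have hzS : z ∈ S := by
    rw [hz]
    have h2 : q * (t * q⁻¹ * t⁻¹) ∈ S := mul_mem hqS ((inferInstance : S.Normal).conj_mem _ (inv_mem hqS) t)
    have h3 : q * (t * q⁻¹ * t⁻¹) = q * t * q⁻¹ * t⁻¹ := by group
    rwa [h3] at h2
  have h31 : q * t * q⁻¹ = z * t := by rw [hz]; group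
  have ht3 : t ^ 3 = 1 := by rw [← ht, pow_orderOf_eq_one]
  have hzt : Commute z t := hzc t htP
  have hzq : Commute z q := hzc q hqP
  have hz3 : z ^ 3 = 1 := by
    have h2 : (q * t * q⁻¹) ^ 3 = 1 := by rw [conj_pow, ht3, mul_one, mul_inv_cancel]
    rw [h31, hzt.mul_pow, ht3, mul_one] at h2
    exact h2
  have hz1 : z ≠ 1 := by
    intro h
    rw [h, one_mul, mul_inv_eq_iff_eq_mul] at h31
    exact hqt h31
  have h32 : q ^ 2 * t * (q ^ 2)⁻¹ = z ^ 2 * t := by
    calc q ^ 2 * t * (q ^ 2)⁻¹ = q * (q * t * q⁻¹) * q⁻¹ := by rw [pow_two, mul_inv_rev]; simp only [mul_assoc]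
      _ = q * (z * t) * q⁻¹ := by rw [h31]
      _ = z * (q * t * q⁻¹) := by
        rw [← mul_assoc q z t, ← hzq.eq]; group
      _ = _ := by rw [h31, pow_two, mul_assoc]
  -- `S ∩ ⟨t⟩ = 1`
  have hcap : ∀ u ∈ S, u ∈ Subgroup.zpowers t → u = 1 := by
    intro u hu hu'
    by_contra hu1
    have h2 : Nat.card (Subgroup.zpowers t) = 3 := by rw [Nat.card_zpowers, ht]
    have h3 := mem_zpowers_of_prime_card (p := 3) (g := (⟨u, hu'⟩ : Subgroup.zpowers t))
      (g' := ⟨t, Subgroup.mem_zpowers t⟩) h2 (fun h => hu1 (congrArg Subtype.val h))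
    obtain ⟨i, hi⟩ := h3
    have h4 : u ^ i = t := congrArg Subtype.val hi
    exact htS (h4 ▸ zpow_mem hu i)
  have hcap' : ∀ u ∈ S, u * t ∈ Subgroup.zpowers t → u = 1 := by
    intro u hu h
    apply hcap u hu
    have h2 := mul_mem h (inv_mem (Subgroup.mem_zpowers t))
    rwa [mul_inv_cancel_right] at h2
  refine ⟨z * t, z ^ 2 * t, ?_, ?_, ?_, ?_, ?_, ?_, ?_⟩
  · rw [← h31]
    exact isConj_iff.2 ⟨q, rfl⟩
  · rw [← h32]
    exact isConj_iff.2 ⟨q ^ 2, rfl⟩
  · rw [← mul_assoc, ← hzt.eq]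
  · rw [← mul_assoc, ← (hzt.pow_left 2).eq]
  · intro h
    exact hz1 (hcap' z hzS h)
  · intro h
    have h2 := hcap' _ (pow_mem hzS 2) h
    apply hz1
    calc z = z ^ 3 * (z ^ 2)⁻¹ := by group
      _ = 1 := by rw [hz3, h2]; group
  · calc z * t * (z ^ 2 * t) = (z * z ^ 2) * (t * t) := by
          rw [mul_assoc, ← mul_assoc t (z ^ 2) t, ← (hzt.pow_left 2).eq]; group
      _ = t⁻¹ := by
          rw [← pow_succ', hz3, one_mul, eq_inv_iff_mul_eq_one, ← pow_two, ← pow_succ, ht3]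



theorem no21 {G : Type*} [Group G] [Finite G] [IsSimpleGroup G] (hG : Nat.card G = 126000) {x : G}
    (hx : orderOf x = 7) (h21 : Nat.card (Subgroup.centralizer {x} : Subgroup G) = 21) : False := by
  have : Fact (Nat.Prime 7) := ⟨by norm_num⟩
  have hH : Nat.card (Subgroup.zpowers x) = 7 := by rw [Nat.card_zpowers, hx]
  have hHi : (Subgroup.zpowers x).index = 18000 := by
    have h1 := (Subgroup.zpowers x).card_mul_index
    rw [hH, hG] at h1
    omega
  have hHp : IsPGroup 7 (Subgroup.zpowers x) := IsPGroup.of_card (n := 1) (by rw [hH, pow_one])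
  obtain ⟨P, hP⟩ : ∃ P : Sylow 7 G, (P : Subgroup G) = Subgroup.zpowers x :=
    ⟨hHp.toSylow (by rw [hHi]; norm_num), rfl⟩
  have hN : (Subgroup.normalizer (P : Set G)).index ≡ 1 [MOD 7] := by
    have := card_sylow_modEq_one 7 G
    rwa [P.card_eq_index_normalizer] at this
  have hC : (Subgroup.centralizer (P : Set G)) = Subgroup.centralizer {x} := by
    have h1 : (P : Set G) = (Subgroup.zpowers x : Set G) := by rw [← hP]; rfl
    rw [h1]
    exact Subgroup.centralizer_closure {x} ▸ (by rw [Subgroup.zpowers_eq_closure])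
  have hk : ∃ k, k ∣ 6 ∧ Nat.card (Subgroup.normalizer (P : Set G)) = 21 * k := by
    have h1 := Subgroup.card_eq_card_quotient_mul_card_subgroup
      ((P : Subgroup G).normalizerMonoidHom).ker
    have h2 : Nat.card ((P : Subgroup G).normalizerMonoidHom).ker = 21 := by
      rw [Subgroup.normalizerMonoidHom_ker, ← h21, ← hC]
      exact Nat.card_congr (Subgroup.subgroupOfEquivOfLe (Subgroup.centralizer_le_normalizer _)).toEquiv
    refine ⟨Nat.card (Subgroup.normalizer (P : Set G) ⧸ ((P : Subgroup G).normalizerMonoidHom).ker), ?_, ?_⟩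
    · rw [Nat.card_congr (QuotientGroup.quotientKerEquivRange _).toEquiv]
      have h3 : Nat.card (MulAut (P : Subgroup G)) = 6 := by
        rw [hP]
        rw [IsCyclic.card_mulAut, hH]
        decide
      rw [← h3]
      exact Subgroup.card_subgroup_dvd_card _
    · rw [mul_comm 21, ← h2]
      exact h1
  obtain ⟨k, hk6, hk⟩ := hk
  have h1 := (Subgroup.normalizer (P : Set G)).card_mul_index
  rw [hk, hG] at h1
  generalize (Subgroup.normalizer (P : Set G)).index = m at hN h1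
  have hk1 : k = 1 := by
    have h2 : k * m = 6000 := by
      have h3 : 21 * (k * m) = 21 * 6000 := by rw [← mul_assoc, h1]
      omega
    have h3 : k ≤ 6 := Nat.le_of_dvd (by norm_num) hk6
    have h4 : m % 7 = 1 := hN
    interval_cases k <;> omega
  have hle : Subgroup.normalizer (P : Set G) ≤ Subgroup.centralizer (P : Set G) := by
    have h2 : Subgroup.centralizer (P : Set G) = Subgroup.normalizer (P : Set G) := by
      apply Subgroup.eq_of_le_of_card_ge (Subgroup.centralizer_le_normalizer _)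
      rw [hk, hk1, hC, h21]
    exact h2.ge
  have h5 := (MonoidHom.ker_transferSylow_isComplement' P hle).card_mul_card
  have h6 : Nat.card (P : Subgroup G) = 7 := by rw [hP, hH]
  rw [h6, hG] at h5
  rcases (inferInstance : (MonoidHom.transferSylow P hle).ker.Normal).eq_bot_or_eq_top with h7 | h7
  · rw [h7, Subgroup.card_bot] at h5
    omega
  · rw [h7, Subgroup.card_top, hG] at h5
    omega


/-! ### the unitary group -/

section U

open Cfsg Cfsg.Agent.LieClassical.HermBasic Cfsg.Agent.LieClassical.HermSiegel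
  Cfsg.Agent.LieClassical.HermGen Cfsg.Agent.LieClassical.SUBasic Matrix
  Cfsg.Agent.ClassicalGeometry.PSUAutBasic
open Cfsg.Agent.ClassicalGeometry.PSUAutCount (gm semiConj toAut herm_gm toAut_sc_mul sc gm_sc_mul gm_mul_inv
  gm_inv_mul gm_mul gm_one gm_inj eq_of_toAut_eq)
open Cfsg.Agent.ClassicalGeometry.GUBasic (guDiag guPerm)
open Cfsg.Agent.KFacts.OutCyc.PSU
open Cfsg.Agent.H441.Wei (th)

variable {F : Type*} [Field F]

theorem inner_of_det_one [Fintype F] (A : GU 3 F 5) (hA : (gm A).det = 1) :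
    ∃ x : PSU 3 F 5, th 3 F 5 A = MulAut.conj x := by
  have hmem : (⟨gm A, hA⟩ : Matrix.SpecialLinearGroup (Fin 3) F) ∈ SU 3 F 5 :=
    (LieClassical.SUBasic.mem_SU_iff _).2 (fun u v => herm_gm A u v)
  exact ⟨_, toAut_eq_conj (g := ⟨_, hmem⟩) rfl⟩

theorem inner_of_det [Fintype F] (A : GU 3 F 5) (hA : (gm A).det ^ 2 = 1) :
    ∃ x : PSU 3 F 5, th 3 F 5 A = MulAut.conj x := by
  rcases mul_self_eq_one_iff.1 ((pow_two _).symm.trans hA) with h | h
  · exact inner_of_det_one A h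
  · let c : {c : F // c * c ^ 5 = 1} := ⟨-1, by ring⟩
    obtain ⟨x, hx⟩ := inner_of_det_one (sc 3 c * A) (by
      rw [gm_sc_mul, det_smul, h]
      change (-1 : F) ^ Fintype.card (Fin 3) * (-1) = 1
      rw [Fintype.card_fin]
      ring)
    refine ⟨x, ?_⟩
    rw [← hx]
    exact (toAut_sc_mul c A _).symm

/-- the diagonal matrices of exponent 3 -/
def A3 (F : Type*) [Field F] : Subgroup (GU 3 F 5) where
  carrier := {A | ∃ d : Fin 3 → F, (∀ i, d i ^ 3 = 1) ∧ gm A = diagonal d}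
  mul_mem' := by
    rintro a b ⟨d, hd, ha⟩ ⟨d', hd', hb⟩
    exact ⟨fun i => d i * d' i, fun i => by rw [mul_pow, hd, hd', one_mul], by
      rw [gm_mul, ha, hb, diagonal_mul_diagonal]⟩
  one_mem' := ⟨fun _ => 1, fun i => one_pow 3, by rw [gm_one]; exact diagonal_one.symm⟩
  inv_mem' := by
    rintro a ⟨d, hd, ha⟩
    refine ⟨fun i => d i ^ 2, fun i => by rw [← pow_mul, mul_comm, pow_mul, hd, one_pow], ?_⟩
    have h1 : gm a * diagonal (fun i => d i ^ 2) = 1 := by
      rw [ha, diagonal_mul_diagonal]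
      have : (fun i => d i * d i ^ 2) = fun _ => 1 := by funext i; rw [← pow_succ', hd]
      rw [this]; exact diagonal_one
    calc gm a⁻¹ = gm a⁻¹ * (gm a * diagonal (fun i => d i ^ 2)) := by rw [h1, Matrix.mul_one]
      _ = _ := by rw [← Matrix.mul_assoc, gm_inv_mul, Matrix.one_mul]

theorem pgroup_A3 : IsPGroup 3 (A3 F) := by
  rintro ⟨A, d, hd, hA⟩
  refine ⟨1, ?_⟩
  apply Subtype.ext
  apply gm_inj
  change gm (A ^ (3 ^ 1)) = gm 1
  rw [pow_one, gm_pow, hA, gm_one, diagonal_pow]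
  have : d ^ 3 = fun _ => 1 := by funext i; exact hd i
  rw [this]; exact diagonal_one

theorem perm_mul (σ τ : Equiv.Perm (Fin 3)) : (guPerm 5 σ * guPerm 5 τ : GU 3 F 5) = guPerm 5 (τ * σ) := by
  apply gm_inj
  change σ.permMatrix F * τ.permMatrix F = (τ * σ).permMatrix F
  rw [permMatrix_mul]

theorem perm_one : (guPerm 5 1 : GU 3 F 5) = 1 := by
  apply gm_inj
  change (1 : Equiv.Perm (Fin 3)).permMatrix F = 1
  exact permMatrix_one

theorem perm_inv (τ : Equiv.Perm (Fin 3)) : (guPerm 5 τ⁻¹ : GU 3 F 5) = (guPerm 5 τ)⁻¹ := by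
  apply eq_inv_of_mul_eq_one_left
  rw [perm_mul, mul_inv_cancel, perm_one]

theorem perm_diag (τ : Equiv.Perm (Fin 3)) (d : Fin 3 → F) :
    τ.permMatrix F * diagonal d = diagonal (fun i => d (τ i)) * τ.permMatrix F := by
  ext i j
  rw [mul_diagonal, diagonal_mul]
  by_cases h : τ i = j
  · subst h; rw [mul_comm]
  · have h0 : τ.permMatrix F i j = 0 := by
      rw [Equiv.Perm.permMatrix, PEquiv.toMatrix_apply]
      simp [Equiv.toPEquiv_apply, h]
    rw [h0, zero_mul, mul_zero]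

theorem perm_conj (τ : Equiv.Perm (Fin 3)) {A : GU 3 F 5} (hA : A ∈ A3 F) :
    guPerm 5 τ * A * (guPerm 5 τ)⁻¹ ∈ A3 F := by
  obtain ⟨d, hd, hA⟩ := hA
  refine ⟨fun i => d (τ i), fun i => hd _, ?_⟩
  have h1 : gm (guPerm 5 τ) * gm A = diagonal (fun i => d (τ i)) * gm (guPerm 5 τ) := by
    rw [hA]
    exact perm_diag τ d
  rw [gm_mul, gm_mul, h1, Matrix.mul_assoc, gm_mul_inv, Matrix.mul_one]

theorem perm_norm (τ : Equiv.Perm (Fin 3)) : (guPerm 5 τ : GU 3 F 5) ∈ Subgroup.normalizer (A3 F : Set (GU 3 F 5)) := by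
  rw [Subgroup.mem_normalizer_iff]
  intro A
  constructor
  · exact perm_conj τ
  · intro h
    have h1 := perm_conj τ⁻¹ h
    rw [perm_inv, inv_inv] at h1
    have h2 : (guPerm 5 τ)⁻¹ * (guPerm 5 τ * A * (guPerm 5 τ)⁻¹) * guPerm 5 τ = A := by group
    rwa [h2] at h1

/-- the 3-group -/
def T0 (F : Type*) [Field F] : Subgroup (GU 3 F 5) := A3 F ⊔ Subgroup.zpowers (guPerm 5 (finRotate 3))

theorem pgroup_T0 : IsPGroup 3 (T0 F) := by
  apply IsPGroup.to_sup_of_normal_left' pgroup_A3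
  · have h3 : (guPerm 5 (finRotate 3) : GU 3 F 5) ^ 3 = 1 := by
      rw [pow_succ, pow_two, perm_mul, perm_mul, ← perm_one]
      congr 1
      decide
    rintro ⟨g, i, rfl⟩
    refine ⟨1, Subtype.ext ?_⟩
    change ((guPerm 5 (finRotate 3) : GU 3 F 5) ^ i) ^ (3 ^ 1) = 1
    rw [pow_one, ← zpow_natCast, ← _root_.zpow_mul, mul_comm, _root_.zpow_mul, zpow_natCast, h3, _root_.one_zpow]
  · rw [Subgroup.zpowers_le]
    exact perm_norm _

/-- two elements of `T0` which do not commute modulo scalars -/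
theorem exists_noncomm [Fintype F] (hF : Fintype.card F = 5 ^ 2) :
    ∃ a ∈ T0 F, ∃ b ∈ T0 F, th 3 F 5 a * th 3 F 5 b ≠ th 3 F 5 b * th 3 F 5 a := by
  obtain ⟨w, hw3, hw1⟩ : ∃ w : F, w ^ 3 = 1 ∧ w ≠ 1 := by
    have : Fact (Nat.Prime 3) := ⟨Nat.prime_three⟩
    have h1 : Nat.card Fˣ = 24 := by rw [Nat.card_units, Nat.card_eq_fintype_card, hF]; norm_num
    obtain ⟨u, hu⟩ := exists_prime_orderOf_dvd_card' (G := Fˣ) 3 (by rw [h1]; norm_num)
    refine ⟨u, ?_, ?_⟩
    · rw [← Units.val_pow_eq_pow_val, ← hu, pow_orderOf_eq_one, Units.val_one]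
    · intro h
      have : u = 1 := Units.ext h
      rw [this, orderOf_one] at hu
      norm_num at hu
  have hw6 : w ^ (5 + 1) = 1 := by
    calc w ^ 6 = (w ^ 3) ^ 2 := by ring
      _ = 1 := by rw [hw3, one_pow]
  let D : GU 3 F 5 := guDiag 5 (fun i => if i = 2 then w else 1) (by
    intro i
    split_ifs
    · exact hw6
    · exact one_pow _)
  refine ⟨D, ?_, guPerm 5 (finRotate 3), ?_, ?_⟩
  · apply Subgroup.mem_sup_left
    refine ⟨fun i => if i = 2 then w else 1, ?_, rfl⟩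
    intro i
    change (if i = 2 then w else 1) ^ 3 = 1
    split_ifs
    · exact hw3
    · exact one_pow _
  · exact Subgroup.mem_sup_right (Subgroup.mem_zpowers _)
  · intro h
    rw [← map_mul, ← map_mul] at h
    obtain ⟨-, c, -, hc⟩ := eq_of_toAut_eq hF le_rfl h
    have h1 : (finRotate 3).permMatrix F * diagonal (fun i => if i = 2 then w else 1) =
      c • (diagonal (fun i => if i = 2 then w else 1) * (finRotate 3).permMatrix F) := hc
    rw [perm_diag] at h1
    have h2 := congrFun (congrFun h1 0) 1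
    have h3 := congrFun (congrFun h1 1) 2
    rw [diagonal_mul, Matrix.smul_apply, diagonal_mul, Equiv.Perm.permMatrix, PEquiv.toMatrix_apply] at h2 h3
    have e0 : (finRotate 3) (0 : Fin 3) = 1 := by decide
    have e1 : (finRotate 3) (1 : Fin 3) = 2 := by decide
    simp [Equiv.toPEquiv_apply, e0, e1] at h2 h3
    apply hw1
    rw [h3, ← h2]

/-- cube roots of one in a field -/
theorem cube_root {a b : F} (ha : a ^ 3 = 1) (ha1 : a ≠ 1) (hb : b ^ 3 = 1) : ∃ i : ℕ, b * a ^ i = 1 := by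
  have h1 : a ^ 2 + a + 1 = 0 := by
    have h2 : (a - 1) * (a ^ 2 + a + 1) = 0 := by linear_combination ha
    exact (mul_eq_zero.1 h2).resolve_left (sub_ne_zero.2 ha1)
  have h2 : (b - 1) * ((b - a) * (b - a ^ 2)) = 0 := by
    linear_combination hb + (b - b ^ 2) * h1 + (b - 1) * ha
  rcases mul_eq_zero.1 h2 with h | h
  · exact ⟨0, by rw [pow_zero, mul_one]; exact sub_eq_zero.1 h⟩
  rcases mul_eq_zero.1 h with h | h
  · exact ⟨2, by rw [sub_eq_zero.1 h, ← pow_succ', ha]⟩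
  · exact ⟨1, by rw [sub_eq_zero.1 h, ← pow_add, ha]⟩

/-- if an automorphism `th A₀` of order 3 is not inner then with it a group containing the inner automorphisms contains
all `th A` -/
theorem range_th [Fintype F] (hF : Fintype.card F = 5 ^ 2) (K : Subgroup (MulAut (PSU 3 F 5)))
    (hK : ∀ x : PSU 3 F 5, MulAut.conj x ∈ K) {A₀ : GU 3 F 5} (hA₀ : th 3 F 5 A₀ ∈ K)
    (hn : ∀ x : PSU 3 F 5, th 3 F 5 A₀ ≠ MulAut.conj x) (A : GU 3 F 5) : th 3 F 5 A ∈ K := by
  have hdet : ∀ B : GU 3 F 5, ((gm B).det ^ 2) ^ 3 = 1 := by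
    intro B
    have := Cfsg.Agent.ClassicalGeometry.GUBasic.det_pow hF (fun u v => herm_gm B u v)
    rw [← pow_mul]
    exact this
  have h1 : (gm A₀).det ^ 2 ≠ 1 := by
    intro h
    obtain ⟨x, hx⟩ := inner_of_det A₀ h
    exact hn x hx
  obtain ⟨i, hi⟩ := cube_root (hdet A₀) h1 (hdet A)
  obtain ⟨x, hx⟩ := inner_of_det (A * A₀ ^ i) (by
    rw [gm_mul, gm_pow, det_mul, det_pow, mul_pow, ← pow_mul, mul_comm i 2, pow_mul]
    exact hi)
  rw [map_mul, map_pow] at hx
  have h2 : th 3 F 5 A = MulAut.conj x * ((th 3 F 5 A₀) ^ i)⁻¹ := by rw [← hx, mul_inv_cancel_right]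
  rw [h2]
  exact mul_mem (hK x) (inv_mem (pow_mem hA₀ i))

end U

/-! ### the main theorem -/

open Cfsg Cfsg.Agent.OrdDiv Cfsg.Agent.H436

theorem prim5 : Prim 5 6 7 := by
  refine ⟨by norm_num, ?_, by norm_num⟩
  intro m
  have h1 : 5 ^ m % 7 = 5 ^ (m % 6) % 7 := by
    conv_lhs => rw [← Nat.div_add_mod m 6, pow_add, pow_mul]
    rw [Nat.mul_mod, Nat.pow_mod]
    norm_num
  have h2 : 1 ≤ 5 ^ m := Nat.one_le_pow _ _ (by norm_num)
  have h3 := Nat.mod_lt m (show 6 > 0 by norm_num)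
  rw [Nat.dvd_iff_mod_eq_zero, Nat.dvd_iff_mod_eq_zero]
  generalize 5 ^ m = N at h1 h2 ⊢
  generalize m % 6 = j at h1 h3 ⊢
  interval_cases j <;> omega

theorem psu5_conj {R : Type} [Group R] [Finite R] (S : Subgroup R) [S.Normal]
    (hC : Subgroup.centralizer (S : Set R) = ⊥) {x t : R} (hx : orderOf x = 7) (ht : orderOf t = 3)
    (hxt : x * t = t * x) (hS : IsNamed (.psu 3 5) S) :
    ∃ t₁ t₂ : R, IsConj t t₁ ∧ IsConj t t₂ ∧ t * t₁ = t₁ * t ∧ t * t₂ = t₂ * t ∧ t₁ ∉ Subgroup.zpowers t ∧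
      t₂ ∉ Subgroup.zpowers t ∧ t₁ * t₂ = t⁻¹ := by
  have h5 : Nat.Prime 5 := by norm_num
  have := Fact.mk h5
  have hS' : IsNamed (.psu 3 (5 ^ 1)) S := by rw [pow_one]; exact hS
  have hpr : Prim 5 (6 * 1) 7 := prim5
  have hcard : Nat.card S = 126000 := by
    rw [hS.ord]
    rfl
  have hxS : x ∈ S := H332.O8S.mem_of_psu3 S hC hS' h5 le_rfl (by norm_num) hpr
    (by rw [← hx]; exact pow_orderOf_eq_one x)
  have hcent := H441.Wei.card_cent_psu3 h5 le_rfl (by norm_num) S hC hS' hpr hxS hx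
  have h21 : (5 ^ 1) ^ 2 - 5 ^ 1 + 1 = 21 := by norm_num
  rw [h21] at hcent
  obtain ⟨F, iF, iF', hF, ⟨e⟩⟩ := hS.real
  -- the index
  have hidx : S.index ∣ 6 := by
    obtain ⟨φ, hφ, -, hk⟩ := S2603.result (K := F) (n := 3) (p := 5) (f := 1) (q := 5) le_rfl (pow_one 5).symm (by rw [hF]) le_rfl (by norm_num)
    have h1 : Nat.card (Cfsg.Out (PSU 3 F 5) ⧸ φ.ker) = 2 * 1 := by
      rw [Nat.card_congr (QuotientGroup.quotientKerEquivOfSurjective φ hφ).toEquiv,
        Nat.card_congr Multiplicative.toAdd, Nat.card_zmod]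
    have h3 : Nat.card (Cfsg.Out S) = 2 * 1 * Nat.gcd 3 (5 + 1) := by
      rw [Nat.card_congr (H816.OutEmb.out_congr e).some.toEquiv, Subgroup.card_eq_card_quotient_mul_card_subgroup φ.ker,
        h1, hk]
    have h4 : S.index ∣ 2 * 1 * Nat.gcd 3 (5 + 1) := by
      rw [← h3]
      exact H816.OutEmb.index_dvd S (by rw [hC]; exact bot_le)
    exact h4
  -- `S` is simple
  have hsimp : IsSimpleGroup S := by
    have := S0283.result hF 3 le_rfl (by norm_num)
    have := e.toEquiv.nontrivial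
    exact IsSimpleGroup.isSimpleGroup_of_surjective e.symm.toMonoidHom e.symm.surjective
  have htS : t ∉ S := by
    intro htS
    apply no21 hcard (x := (⟨x, hxS⟩ : S)) (by rw [← Subgroup.orderOf_coe]; exact hx)
    have hle : (Subgroup.centralizer {(⟨x, hxS⟩ : S)}).map S.subtype ≤ Subgroup.centralizer {x} := by
      rintro _ ⟨y, hy, rfl⟩
      rw [Subgroup.mem_centralizer_singleton_iff]
      exact congrArg Subtype.val (Subgroup.mem_centralizer_singleton_iff.1 hy)
    have h1 : Nat.card (Subgroup.centralizer {(⟨x, hxS⟩ : S)}) ∣ 21 := by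
      rw [← Nat.card_congr ((Subgroup.centralizer {(⟨x, hxS⟩ : S)}).equivMapOfInjective S.subtype
        S.subtype_injective).toEquiv.symm]
      exact (Subgroup.card_dvd_of_le hle).trans hcent
    have h2 : 7 ∣ Nat.card (Subgroup.centralizer {(⟨x, hxS⟩ : S)}) := by
      have h3 : (⟨x, hxS⟩ : S) ∈ Subgroup.centralizer {(⟨x, hxS⟩ : S)} := Subgroup.mem_centralizer_singleton_iff.2 rfl
      have h4 : orderOf (⟨⟨x, hxS⟩, h3⟩ : Subgroup.centralizer {(⟨x, hxS⟩ : S)}) = 7 := by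
        rw [← Subgroup.orderOf_coe, ← Subgroup.orderOf_coe]
        exact hx
      rw [← h4]
      exact orderOf_dvd_natCard _
    have h2' : 3 ∣ Nat.card (Subgroup.centralizer {(⟨x, hxS⟩ : S)}) := by
      have h3 : (⟨t, htS⟩ : S) ∈ Subgroup.centralizer {(⟨x, hxS⟩ : S)} :=
        Subgroup.mem_centralizer_singleton_iff.2 (Subtype.ext hxt.symm)
      have h4 : orderOf (⟨⟨t, htS⟩, h3⟩ : Subgroup.centralizer {(⟨x, hxS⟩ : S)}) = 3 := by
        rw [← Subgroup.orderOf_coe, ← Subgroup.orderOf_coe]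
        exact ht
      rw [← h4]
      exact orderOf_dvd_natCard _
    have h3 : 3 * 7 ∣ Nat.card (Subgroup.centralizer {(⟨x, hxS⟩ : S)}) :=
      Nat.Coprime.mul_dvd_of_dvd_of_dvd (by norm_num) h2' h2
    exact Nat.dvd_antisymm h1 h3
  -- the embedding
  let φ : R →* MulAut (PSU 3 F 5) :=
    (MulAut.congr e).toMonoidHom.comp (MulAut.conjNormal (H := S))
  have hφ : Function.Injective φ := by
    rw [injective_iff_map_eq_one]
    intro x hx
    have h1 : MulAut.conjNormal (H := S) x = 1 := (MulAut.congr e).injective (hx.trans (map_one _).symm)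
    have h2 : x ∈ Subgroup.centralizer (S : Set R) := by
      rw [Subgroup.mem_centralizer_iff]
      intro y hy
      have h3 := congrArg (fun t : MulAut S => ((t ⟨y, hy⟩ : S) : R)) h1
      have h4 : x * y * x⁻¹ = y := h3
      rw [mul_inv_eq_iff_eq_mul] at h4
      exact h4.symm
    rw [hC] at h2
    exact Subgroup.mem_bot.1 h2
  have hφS : ∀ y : PSU 3 F 5, φ (e.symm y : S) = MulAut.conj y := by
    intro y
    ext z
    change e (MulAut.conjNormal ((e.symm y : S) : R) (e.symm z)) = y * z * y⁻¹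
    have h1 : MulAut.conjNormal ((e.symm y : S) : R) (e.symm z) = e.symm y * e.symm z * (e.symm y)⁻¹ :=
      Subtype.ext rfl
    rw [h1, map_mul, map_mul, map_inv, e.apply_symm_apply, e.apply_symm_apply]
  -- `φ t` is linear
  have h32 : ¬ (3 = 3 ∧ 5 = 2) := by norm_num
  have hρ : KFacts.OutCyc.PSU.rho hF le_rfl h32 (φ t) = 1 := by
    have h2 : Nat.card (F ≃+* F) = 2 := Lib.FieldAutCard.card_ringAut (p := 5) (by norm_num) hF
    have : Finite (F ≃+* F) := Nat.finite_of_card_ne_zero (by rw [h2]; norm_num)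
    have h3 : orderOf (KFacts.OutCyc.PSU.rho hF le_rfl h32 (φ t)) ∣ 2 := h2 ▸ orderOf_dvd_natCard _
    have h4 : orderOf (KFacts.OutCyc.PSU.rho hF le_rfl h32 (φ t)) ∣ 3 :=
      (orderOf_map_dvd _ _).trans ((orderOf_map_dvd φ t).trans (by rw [ht]))
    have h6 := Nat.dvd_gcd h3 h4
    exact orderOf_eq_one_iff.1 (Nat.dvd_one.1 h6)
  obtain ⟨A₀, hA₀⟩ := KFacts.OutCyc.PSU.rho_spec hF le_rfl h32 (φ t)
  rw [hρ] at hA₀
  have hA₀' : H441.Wei.th 3 F 5 A₀ = φ t := hA₀.symm
  have hrange := range_th hF φ.range (fun y => ⟨_, hφS y⟩) (A₀ := A₀) ⟨t, hA₀'.symm⟩ (by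
    intro y hy
    rw [hA₀', ← hφS] at hy
    rw [hφ hy] at htS
    exact htS (e.symm y).2)
  obtain ⟨A, hA, B, hB, hAB⟩ := exists_noncomm hF
  obtain ⟨a, ha⟩ := hrange A
  obtain ⟨b, hb⟩ := hrange B
  refine conj_of_nonab S (by rw [hcard]; norm_num) hidx ht htS
    (T := ((T0 F).map (H441.Wei.th 3 F 5)).comap φ) (((pgroup_T0 (F := F)).map _).comap_of_injective φ hφ)
    (a := a) (b := b) ?_ ?_ ?_
  · exact ⟨A, hA, ha.symm⟩
  · exact ⟨B, hB, hb.symm⟩
  · intro h
    apply hAB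
    rw [← ha, ← hb, ← map_mul, ← map_mul, h]

end Cfsg.Agent.H497.Spr.Psu5
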