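import Cfsg.Agent.H975.Cov.Main
import Cfsg.Agent.H424.Spr.Two
import Cfsg.Agent.H159.PF.FieldUniq
import Cfsg.Agent.AutOrth.Main
import Cfsg.Agent.S0297

/-!
# 3/2-generation of `PΩ⁻₈(q)` (helper497, task 4841, for helper862's S3938)

Every proper overgroup of an element of order `r₈` (a primitive prime divisor of `q⁸ - 1`) lies in the normaliser of the unique
field of degree two commuting with it (`H975.Cov.a_case`); `spr_ominus_four`.
-/

set_option autoImplicit false
set_option linter.unusedSectionVars false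

namespace Cfsg.Agent.H497.Spr

open Module QuadraticMap Cfsg Cfsg.Geo Cfsg.Agent.LieClassical.OrthCore Cfsg.Agent.H955 Cfsg.Agent.H954.TSing
open Cfsg.Agent.H884.El
open Cfsg.Agent.H951 (fx cm Inv)
open Cfsg.Agent.LieClassical.OmegaReindex
open Cfsg.Agent.H975.Cov
open Cfsg.Agent.H424.Spr (Spr spr_of_one_up)
open scoped MatrixGroups Matrix

section Up

variable {F : Type} [Field F] [Fintype F] {Q : QuadraticForm F (Fin 8 → F)}

/-- one proper subgroup contains all coatoms over `s` -/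
theorem exists_one (hQ : Nondeg Q) (hP : ¬ IsPlus Q) (hD : H390.Lift.Data Q) :
    ∃ (s : omegaGL (⇑Q)) (M : Subgroup (omegaGL (⇑Q))), M ≠ ⊤ ∧
      ∀ K : Subgroup (omegaGL (⇑Q)), IsCoatom K → s ∈ K → K = M := by
  obtain ⟨p, f, r8, N, r3, n⟩ := exists_num F
  have hmem : ∀ {g : GL (Fin 8) F}, g ∈ Cfsg.isometryGroup F (⇑Q) → Odd (orderOf g) → g ∈ omegaGL (⇑Q) := by
    intro g hg hodd
    obtain ⟨x, hx⟩ := exists_omega hD hg hodd (pow_orderOf_eq_one g)
    exact ⟨x, x.2, hx⟩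
  obtain ⟨a, ha, hao⟩ := exists_even hQ n.h8q (by decide) (by norm_num) (Or.inr ⟨rfl, hP⟩)
  obtain ⟨c, hc, hco⟩ := exists_odd hQ n.h3
  have haΩ := hmem ha (by rw [hao]; exact n.h8q.odd (by norm_num))
  have hcΩ := hmem hc (by rw [hco]; exact n.h3.odd (by norm_num))
  have hirr := a_irr hQ n.h8q ha hao
  have hcop : Nat.Coprime r8 2 := Nat.coprime_two_right.2 (n.h8q.odd (by norm_num))
  have key : ∀ K : Subgroup (omegaGL (⇑Q)), IsCoatom K → (⟨a, haΩ⟩ : omegaGL (⇑Q)) ∈ K →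
      ∃ L : Subalgebra F (Matrix (Fin 8) (Fin 8) F), IsFieldSubalgebra 2 L ∧ im K ≤ subalgebraNormalizer L :=
    fun K hK haK => a_case n hQ hP (isMaximalIn_im hK) (mem_im haK) hao
  by_cases hex : ∃ K : Subgroup (omegaGL (⇑Q)), IsCoatom K ∧ (⟨a, haΩ⟩ : omegaGL (⇑Q)) ∈ K
  · obtain ⟨K₀, hK₀, haK₀⟩ := hex
    refine ⟨⟨a, haΩ⟩, K₀, hK₀.1, fun K hK haK => ?_⟩
    obtain ⟨L₀, hL₀, h₀⟩ := key K₀ hK₀ haK₀
    obtain ⟨L, hL, h⟩ := key K hK haK
    have hcomm : ∀ {L : Subalgebra F (Matrix (Fin 8) (Fin 8) F)}, IsFieldSubalgebra 2 L → a ∈ subalgebraNormalizer L →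
        ∀ x ∈ L, (a : Matrix (Fin 8) (Fin 8) F) * x = x * (a : Matrix (Fin 8) (Fin 8) F) := fun hL haL =>
      comm_field' hL haL hcop (by rw [← hao]; exact pow_orderOf_eq_one a)
    have hLL : L = L₀ := H159.PF.fieldSub_unique (y := (a : Matrix (Fin 8) (Fin 8) F))
      (fun W hW => hirr W hW) (by norm_num) hL hL₀ (hcomm hL (h (mem_im haK))) (hcomm hL₀ (h₀ (mem_im haK₀)))
    subst hLL
    -- the normaliser of the field is proper
    set N : Subgroup (omegaGL (⇑Q)) := (subalgebraNormalizer L).subgroupOf (omegaGL (⇑Q)) with hN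
    have hNt : N ≠ ⊤ := by
      intro htop
      have h5 : omegaGL (⇑Q) ≤ subalgebraNormalizer L := by
        intro x hx
        have h6 : (⟨x, hx⟩ : omegaGL (⇑Q)) ∈ N := by rw [htop]; trivial
        exact h6
      exact c_kill (H := omegaGL (⇑Q)) n hQ hP omegaGL_le' hcΩ hco (Or.inr (Or.inr (Or.inl ⟨L, hL, h5⟩)))
    have hle : ∀ K : Subgroup (omegaGL (⇑Q)), im K ≤ subalgebraNormalizer L → K ≤ N := fun K hK x hx => hK (mem_im hx)
    have e1 : N = K := (hK.le_iff.1 (hle K h)).resolve_left hNt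
    have e2 : N = K₀ := (hK₀.le_iff.1 (hle K₀ h₀)).resolve_left hNt
    rw [← e1, e2]
  · push Not at hex
    refine ⟨⟨a, haΩ⟩, ⊥, ?_, fun K hK haK => absurd haK (hex K hK)⟩
    intro hbt
    have h1 : (⟨a, haΩ⟩ : omegaGL (⇑Q)) ∈ (⊥ : Subgroup (omegaGL (⇑Q))) := by rw [hbt]; trivial
    rw [Subgroup.mem_bot] at h1
    have h2 : a = 1 := congrArg Subtype.val h1
    rw [h2, orderOf_one] at hao
    have h3 := n.h8q.odd (by norm_num)
    have h4 := n.h8.1
    rw [← hao] at h4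
    exact absurd h4 (by norm_num)

theorem spr_up {L : Type*} [Group L] [IsSimpleGroup L] [Finite L] (hna : ∃ x y : L, x * y ≠ y * x)
    (hQ : Nondeg Q) (hP : ¬ IsPlus Q) (hD : H390.Lift.Data Q) (f : omegaGL (⇑Q) →* L) (hf : Function.Surjective f) :
    Spr L := by
  obtain ⟨s, M, hM, h⟩ := exists_one hQ hP hD
  have hfin : Finite (omegaGL (⇑Q)) := inferInstance
  have hall : ∀ K : Subgroup (omegaGL (⇑Q)), s ∈ K → K ≠ ⊤ → K ≤ M := by
    intro K hs hK
    obtain ⟨K', hK', hle⟩ := (eq_top_or_exists_le_coatom K).resolve_left hK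
    rw [← h K' hK' (hle hs)]
    exact hle
  by_cases hex : ∃ K : Subgroup (omegaGL (⇑Q)), f.ker ≤ K ∧ s ∈ K ∧ K ≠ ⊤
  · obtain ⟨K, hK1, hK2, hK3⟩ := hex
    exact spr_of_one_up hna f hf (s := s) (M := M) (hK1.trans (hall K hK2 hK3)) hM fun K _ hs hK => hall K hs hK
  · push Not at hex
    refine spr_of_one_up hna f hf (s := s) (M := f.ker) le_rfl ?_ fun K hk hs hK => absurd (hex K hk hs) hK
    intro htop
    obtain ⟨x, y, hxy⟩ := hna
    apply hxy
    have h1 : ∀ z : L, z = 1 := by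
      intro z
      obtain ⟨g, rfl⟩ := hf z
      have : g ∈ f.ker := by rw [htop]; trivial
      exact this
    rw [h1 x, h1 y]

end Up

section Comm

open Cfsg.Agent.LieClassical.OrthTrans Cfsg.Agent.LieClassical.OrthSimple
open Cfsg.Agent.ClassicalGeometry.OrthAut1 (P)

theorem not_comm_P {F V : Type*} [Field F] [AddCommGroup V] [Module F V] {Q : QuadraticForm F V} (hG : Good Q) :
    ∃ x y : P Q, x * y ≠ y * x := by
  by_contra hc
  push Not at hc
  have h1 : commutator ↥(E Q) = ⊤ := (Subgroup.isPerfect_iff.mpr hG.E_perfect).commutator_eq_top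
  have h2 : commutator ↥(E Q) ≤ (QuotientGroup.mk' (Subgroup.center ↥(E Q))).ker := by
    rw [commutator_def, Subgroup.commutator_le]
    intro a _ b _
    rw [MonoidHom.mem_ker, map_commutatorElement, commutatorElement_eq_one_iff_mul_comm]
    exact hc _ _
  have h4 := good_isSimpleGroup hG
  have h5 := h4.toNontrivial
  rw [h1, top_le_iff] at h2
  obtain ⟨x, y, hne⟩ := h5.exists_pair_ne
  obtain ⟨a, rfl⟩ := QuotientGroup.mk_surjective x
  obtain ⟨b, rfl⟩ := QuotientGroup.mk_surjective y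
  apply hne
  have ha : a ∈ (QuotientGroup.mk' (Subgroup.center ↥(E Q))).ker := by rw [h2]; trivial
  have hb : b ∈ (QuotientGroup.mk' (Subgroup.center ↥(E Q))).ker := by rw [h2]; trivial
  exact (MonoidHom.mem_ker.1 ha).trans (MonoidHom.mem_ker.1 hb).symm

theorem not_comm_minus {F : Type} [Field F] [Fintype F] {m : ℕ} (hm : 2 ≤ m) {a b : F}
    (hab : ∀ z₁ z₂ : F, z₁ ^ 2 + a * z₁ * z₂ + b * z₂ ^ 2 = 0 → z₁ = 0 ∧ z₂ = 0) :
    ∃ x y : POmega F (quadFormMinus m F a b), x * y ≠ y * x := by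
  have hG : Good (LieClassical.QuadForms.minusForm m F a b) := AutOrth.Main.good_minus hm hab
  have e : POmega F (quadFormMinus m F a b) ≃* P (LieClassical.QuadForms.minusForm m F a b) := by
    rw [← LieClassical.QuadForms.coe_minusForm]
    exact AutOrth.Main.pe hG
  obtain ⟨x, y, hxy⟩ := not_comm_P hG
  refine ⟨e.symm x, e.symm y, fun h => hxy ?_⟩
  rw [← map_mul, ← map_mul] at h
  exact e.symm.injective h

end Comm

section Final

variable {F : Type} [Field F] [Fintype F]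

/-- **`PΩ⁻₈(q)`** -/
theorem spr_ominus_four {a b : F}
    (hab : ∀ z₁ z₂ : F, z₁ ^ 2 + a * z₁ * z₂ + b * z₂ ^ 2 = 0 → z₁ = 0 ∧ z₂ = 0) :
    Spr (POmega F (quadFormMinus (4 - 1) F a b)) := by
  have hs : IsSimpleGroup (POmega F (quadFormMinus 3 F a b)) := S0297.result (F := F) 4 le_rfl a b hab
  have hna : ∃ x y : POmega F (quadFormMinus 3 F a b), x * y ≠ y * x := not_comm_minus (by norm_num) hab
  change Spr (POmega F (quadFormMinus 3 F a b))
  set Q0 := quadMinus 3 F a b with hQ0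
  let e : (Fin 3 ⊕ Fin 3) ⊕ Fin 2 ≃ Fin 8 := Fintype.equivFinOfCardEq (by simp)
  let Q := reindexForm e Q0
  have hnd : (polarBilin Q).Nondegenerate := reindexForm_nondegenerate e Q0 (quadMinus_nondegenerate hab)
  have hQ : Nondeg Q := nondeg_iff.2 hnd
  have hP : ¬ IsPlus Q := by
    rw [isPlus_iff_of_equiv (Q := Q) (Q' := Q0) (LinearEquiv.funCongrLeft F F e) (fun v => rfl)]
    exact not_isPlus_quadMinus hab
  have hD : H390.Lift.Data Q := by
    refine H390.data_of Q hnd (by rw [Fintype.card_fin]; norm_num) ?_ (Or.inr (by rw [Fintype.card_fin]; norm_num))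
    obtain ⟨u, hu0, hu⟩ := quadMinus_isotropic (F := F) (m := 3) (by norm_num) a b
    refine ⟨u ∘ e.symm, fun h => hu0 ?_, ?_⟩
    · funext i
      have := congrFun h (e i)
      simpa using this
    · change Q0 ((u ∘ e.symm) ∘ e) = 0
      rw [Function.comp_assoc, Equiv.symm_comp_self, Function.comp_id]
      exact hu
  let ε : Cfsg.isometryGroup F (⇑Q) ≃* Cfsg.isometryGroup F (⇑Q0) :=
    isometryGroupReindex e.symm (⇑Q) (⇑Q0) (fun v => by
      change Q0 v = Q0 ((v ∘ e.symm) ∘ e)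
      rw [Function.comp_assoc, Equiv.symm_comp_self, Function.comp_id])
  have hΩ : (Omega F (⇑Q)).map ε.toMonoidHom = Omega F (⇑Q0) := by
    unfold Omega
    rw [commutator_def, commutator_def, Subgroup.map_commutator, Subgroup.map_top_of_surjective _ ε.surjective]
  let ψ : omegaGL (⇑Q) ≃* Omega F (⇑Q0) :=
    ((Omega F (⇑Q)).equivMapOfInjective (Cfsg.isometryGroup F (⇑Q)).subtype
      (Cfsg.isometryGroup F (⇑Q)).subtype_injective).symm.trans
      ((ε.subgroupMap (Omega F (⇑Q))).trans (MulEquiv.subgroupCongr hΩ))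
  rw [← coe_quadMinus, ← hQ0] at hs hna ⊢
  have hfin : Finite (POmega F (⇑Q0)) := inferInstance
  exact spr_up hna hQ hP hD ((QuotientGroup.mk' (Subgroup.center (Omega F (⇑Q0)))).comp ψ.toMonoidHom)
      ((QuotientGroup.mk'_surjective _).comp ψ.surjective)

end Final

end Cfsg.Agent.H497.Spr
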